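import Groth.Agent.DualLib.DeligneHom
import Groth.Agent.Coherent.InjRestrict
import Groth.Agent.DCat.PullPerf
import Mathlib.Algebra.Homology.DerivedCategory.Ext.Map
import Mathlib.Algebra.Homology.DerivedCategory.Ext.ExactSequences

/-! # An Ext class vanishing on the complement of `V(I)` dies on a power of `I` -/

set_option autoImplicit false
set_option backward.isDefEq.respectTransparency false
set_option backward.defeqAttrib.useBackward true
set_option linter.style.haveILetI false
set_option linter.unusedSectionVars false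

universe u

open CategoryTheory CategoryTheory.Limits CategoryTheory.Abelian AlgebraicGeometry
open Groth.Agent.SubAvoid14

namespace Groth.Agent.CohDim22

variable {U X : Scheme.{u}} [IsNoetherian X] (j : U ⟶ X) [IsOpenImmersion j] (I : X.IdealSheafData)
variable (hI : I.supportSetᶜ = Set.range j)

local notation "R" => Scheme.Modules.restrictFunctor j

/-- A map of modules which vanishes off `V(I)` dies on a power of `I`. -/
theorem kill_hom (hI : I.supportSetᶜ = Set.range j) {F N : X.Modules} (hF : Coh.IsCoh F) [Coh.IsQCoh N]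
    (g : F ⟶ N) (hg : (R).map g = 0) :
    ∃ m, 1 ≤ m ∧ Dual3.idealMulι (I ^ m) F ≫ g = 0 := by
  haveI := hF.1
  haveI : (R).IsLeftAdjoint := (Scheme.Modules.restrictAdjunction j).isLeftAdjoint
  haveI : PreservesFiniteLimits (R) := DCat.PullPerf.preservesFiniteLimits_restrict j
  haveI : Coh.IsQCoh (cokernel g) := Coherent.isQCoh_cokernel g
  haveI : Coh.IsQCoh (Abelian.image g) := Coherent.isQCoh_kernel (cokernel.π g)
  have hz : IsZero ((R).obj (Abelian.image g)) := by
    have e : (R).map (Abelian.factorThruImage g) ≫ (R).map (Abelian.image.ι g) = 0 := by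
      rw [← Functor.map_comp, Abelian.image.fac, hg]
    have e2 : (R).map (Abelian.factorThruImage g) = 0 := by
      rw [← cancel_mono ((R).map (Abelian.image.ι g)), e, zero_comp]
    rw [IsZero.iff_id_eq_zero, ← cancel_epi ((R).map (Abelian.factorThruImage g)), e2]
    simp
  obtain ⟨m, hm, hk⟩ := DualLib.DeligneHom.kill0 j I hI hF inferInstance hz 1
    (Dual3.idealMulι (I ^ 1) F ≫ Abelian.factorThruImage g)
  obtain ⟨t, ht⟩ := DualLib.DeligneHom.exists_tr I F hm
  refine ⟨m, hm, ?_⟩
  rw [← ht, ← Abelian.image.fac g]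
  have := hk t ht
  simp only [Category.assoc] at this ⊢
  rw [reassoc_of% this, zero_comp]

/-- A restriction of a map into an injective extends. -/
theorem exists_extension {F J : X.Modules} [Coh.IsQCoh J] [Injective J]
    (φ : (R).obj F ⟶ (R).obj J) : ∃ ψ : F ⟶ J, (R).map ψ = φ := by
  let adj := Scheme.Modules.restrictAdjunction j
  haveI : (R).IsRightAdjoint := (DCat.JShriek.shriekAdj j).isRightAdjoint
  haveI : (R).IsLeftAdjoint := adj.isLeftAdjoint
  haveI := S17641.result j J inferInstance
  let η : J ⟶ (Scheme.Modules.pushforward j).obj ((R).obj J) := adj.unit.app J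
  haveI hiK : Injective (kernel η) := (inferInstance : Injective ((DCoh.gammaZ j).obj J))
  let p : J ⟶ kernel η := Injective.factorThru (𝟙 _) (kernel.ι η)
  have hp : kernel.ι η ≫ p = 𝟙 _ := Injective.comp_factorThru _ _
  let a : J ⟶ J := 𝟙 J - p ≫ kernel.ι η
  have ha : kernel.ι η ≫ a = 0 := by
    simp [a, Preadditive.comp_sub, reassoc_of% hp]
  let a' : Abelian.coimage η ⟶ J := cokernel.desc _ a ha
  let s := Injective.factorThru a' (Abelian.factorThruCoimage η)
  have hs : η ≫ s = a := by
    rw [← Abelian.coimage.fac η, Category.assoc, Injective.comp_factorThru]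
    exact cokernel.π_desc _ _ _
  haveI : IsIso ((R).map η) := by
    haveI : IsIso (adj.counit.app ((R).obj J)) := inferInstance
    exact IsIso.of_isIso_fac_right (adj.left_triangle_components J)
  have hK : (R).map (kernel.ι η) = 0 := by
    rw [← cancel_mono ((R).map η), ← Functor.map_comp, kernel.condition]
    simp
  have hs' : (R).map η ≫ (R).map s = 𝟙 _ := by
    rw [← Functor.map_comp, hs]
    simp only [a, Functor.map_sub, Functor.map_comp, hK, comp_zero, sub_zero, CategoryTheory.Functor.map_id]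
  refine ⟨adj.homEquiv _ _ φ ≫ s, ?_⟩
  have h1 : (R).map (adj.homEquiv _ _ φ) = φ ≫ (R).map η := by
    have hc : (R).map η ≫ adj.counit.app ((R).obj J) = 𝟙 _ := adj.left_triangle_components J
    rw [← cancel_mono (adj.counit.app ((R).obj J)), Category.assoc, hc, Category.comp_id]
    exact (adj.homEquiv_counit _ _ _).symm.trans ((adj.homEquiv _ _).symm_apply_apply φ)
  rw [Functor.map_comp, h1]
  exact (Category.assoc _ _ _).trans (by rw [hs', Category.comp_id])

variable [HasExt.{u} X.Modules] [HasExt.{u} U.Modules] [PreservesFiniteLimits (Scheme.Modules.restrictFunctor j)]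
  [PreservesFiniteColimits (Scheme.Modules.restrictFunctor j)]

/-- An Ext class which vanishes off `V(I)` dies on a power of `I`. -/
theorem kill_ext (hI : I.supportSetᶜ = Set.range j) {F : X.Modules} (hF : Coh.IsCoh F) :
    ∀ (q : ℕ) (N : X.Modules), Coh.IsQCoh N → ∀ ζ : Ext.{u} F N q, (ζ.mapExactFunctor (R) : Ext.{u} _ _ q) = 0 →
      ∃ m, 1 ≤ m ∧ (Ext.mk₀.{u} (Dual3.idealMulι (I ^ m) F)).comp ζ (zero_add q) = 0 := by
  intro q
  induction q with
  | zero =>
    intro N hN ζ hζ
    haveI := hN
    obtain ⟨g, rfl⟩ := (Ext.mk₀_bijective F N).2 ζ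
    rw [Ext.mapExactFunctor_mk₀] at hζ
    obtain ⟨m, hm, h⟩ := kill_hom j I hI hF g ((Ext.mk₀_bijective _ _).1 (hζ.trans (Ext.mk₀_zero _ _).symm))
    exact ⟨m, hm, by rw [Ext.mk₀_comp_mk₀, h, Ext.mk₀_zero]⟩
  | succ q ih =>
    intro N hN ζ hζ
    haveI := hN
    obtain ⟨J, e, he, hJq, hJi⟩ := InjMod14.exists_qcoh_injective N hN
    haveI := he; haveI := hJq; haveI := hJi
    let S : ShortComplex X.Modules := ShortComplex.mk e (cokernel.π e) (cokernel.condition e)
    have hS : S.ShortExact :=
      { exact := ShortComplex.exact_of_g_is_cokernel _ (cokernelIsCokernel e), mono_f := he, epi_g := inferInstanceAs (Epi (cokernel.π e)) }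
    haveI : Injective S.X₂ := hJi
    obtain ⟨ζ', hζ'⟩ := Ext.covariant_sequence_exact₁ F hS ζ (Ext.eq_zero_of_injective _) rfl
    have hSR := hS.map_of_exact (R)
    have h0 : (ζ'.mapExactFunctor (R)).comp hSR.extClass rfl = 0 := by
      rw [← Ext.mapExactFunctor_extClass (R) hS, ← Ext.mapExactFunctor_comp, hζ', hζ]
    obtain ⟨η, hη⟩ := Ext.covariant_sequence_exact₃ _ hSR (ζ'.mapExactFunctor (R)) rfl h0
    obtain ⟨η', hη'⟩ : ∃ η' : Ext F S.X₂ q, η'.mapExactFunctor (R) = η := by
      cases q with
      | zero =>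
        obtain ⟨φ, rfl⟩ := (Ext.mk₀_bijective _ _).2 η
        obtain ⟨ψ, hψ⟩ := exists_extension j φ
        exact ⟨Ext.mk₀ ψ, by rw [Ext.mapExactFunctor_mk₀, hψ]⟩
      | succ q =>
        haveI : Injective ((R).obj S.X₂) := Coherent.injective_restrict j S.X₂
        haveI : Injective (S.map (R)).X₂ := ‹Injective ((R).obj S.X₂)›
        exact ⟨0, by rw [Ext.mapExactFunctor_zero]; exact (Ext.eq_zero_of_injective η).symm⟩
    obtain ⟨m, hm, h⟩ := ih S.X₃ (Coherent.isQCoh_cokernel e) (ζ' - η'.comp (Ext.mk₀ S.g) (add_zero q)) (by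
      rw [← Functor.mapExtAddHom_apply, map_sub, sub_eq_zero, Functor.mapExtAddHom_apply, Functor.mapExtAddHom_apply,
        Ext.mapExactFunctor_comp, Ext.mapExactFunctor_mk₀, hη']
      exact hη.symm)
    refine ⟨m, hm, ?_⟩
    have e1 : (η'.comp (Ext.mk₀ S.g) (add_zero q)).comp hS.extClass (rfl : q + 1 = q + 1) = 0 := by
      simp [Ext.comp_assoc_of_second_deg_zero, ShortComplex.ShortExact.comp_extClass]
    have e2 : (ζ' - η'.comp (Ext.mk₀ S.g) (add_zero q)).comp hS.extClass (rfl : q + 1 = q + 1) = ζ := by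
      rw [sub_eq_add_neg, Ext.add_comp, Ext.neg_comp, e1, neg_zero, add_zero, hζ']
    rw [← e2, ← Ext.comp_assoc _ _ _ (zero_add q) rfl (by omega), h, Ext.zero_comp]

end Groth.Agent.CohDim22
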