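import Groth.Agent.CohDim22.DeligneExt
import Groth.Agent.Mod22.CMDual
import Groth.Agent.SerreDual.HomLinear

/-! # Ext classes on an open subscheme extend to a power of the ideal; finiteness of Ext into the dualizing module -/

set_option autoImplicit false
set_option backward.isDefEq.respectTransparency false
set_option linter.style.haveILetI false
set_option linter.unusedSectionVars false

universe u

open CategoryTheory CategoryTheory.Limits CategoryTheory.Abelian AlgebraicGeometry Opposite
open Groth.Agent.SubAvoid14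

namespace Groth.Agent.CohDim22

variable {X : Scheme.{u}} [IsNoetherian X] (U : X.Opens) (I : X.IdealSheafData)
variable [HasExt.{u} X.Modules] [HasExt.{u} U.toScheme.Modules]
  [PreservesFiniteLimits (Scheme.Modules.restrictFunctor U.ι)]
  [PreservesFiniteColimits (Scheme.Modules.restrictFunctor U.ι)]

/-- An Ext class on the complement of `V(I)` extends to a power of `I`. -/
theorem extend_ext (hU : (U : Set X) = (I.support : Set X)ᶜ) {F : X.Modules} (hF : Coh.IsCoh F) :
    ∀ (q : ℕ) (N : X.Modules), Coh.IsQCoh N →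
      ∀ ξ : Ext.{u} ((Scheme.Modules.restrictFunctor U.ι).obj F) ((Scheme.Modules.restrictFunctor U.ι).obj N) q,
        ∃ (m : ℕ) (ζ : Ext.{u} ((Dual3.idealMul (I ^ m)).obj F) N q),
          ζ.mapExactFunctor (Scheme.Modules.restrictFunctor U.ι) =
            (Ext.mk₀ ((Scheme.Modules.restrictFunctor U.ι).map (Dual3.idealMulι (I ^ m) F))).comp ξ (zero_add q) := by
  intro q
  induction q with
  | zero =>
    intro N hN ξ
    obtain ⟨φ, rfl⟩ := (Ext.mk₀_bijective _ _).2 ξ
    obtain ⟨m, ψ, hψ⟩ := exists_hom_idealMul N F hN hF I U hU φ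
    exact ⟨m, Ext.mk₀ ψ, (Ext.mapExactFunctor_mk₀ _ ψ).trans ((congrArg Ext.mk₀ hψ).trans (Ext.mk₀_comp_mk₀ _ _).symm)⟩
  | succ q ih =>
    intro N hN ξ
    obtain ⟨J, e, he, hJq, hJi⟩ := InjMod14.exists_qcoh_injective N hN
    haveI := hN; haveI := he; haveI := hJq; haveI := hJi
    let S : ShortComplex X.Modules := ShortComplex.mk e (cokernel.π e) (cokernel.condition e)
    have hS : S.ShortExact :=
      { exact := ShortComplex.exact_of_g_is_cokernel _ (cokernelIsCokernel e), mono_f := he,
        epi_g := inferInstanceAs (Epi (cokernel.π e)) }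
    haveI : Injective S.X₂ := hJi
    have hSR := hS.map_of_exact (Scheme.Modules.restrictFunctor U.ι)
    haveI : Injective (S.map (Scheme.Modules.restrictFunctor U.ι)).X₂ := Coherent.injective_restrict U.ι S.X₂
    obtain ⟨ξ', hξ'⟩ := Ext.covariant_sequence_exact₁ _ hSR ξ (Ext.eq_zero_of_injective _) rfl
    obtain ⟨m, ζ', hζ'⟩ := ih S.X₃ (Coherent.isQCoh_cokernel e) ξ'
    refine ⟨m, ζ'.comp hS.extClass rfl, ?_⟩
    rw [Ext.mapExactFunctor_comp, hζ', Ext.mapExactFunctor_extClass (Scheme.Modules.restrictFunctor U.ι) hS,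
      Ext.comp_assoc _ _ _ (zero_add q) rfl (by omega)]
    exact congrArg (fun w => (Ext.mk₀ ((Scheme.Modules.restrictFunctor U.ι).map
      (Dual3.idealMulι (I ^ m) F))).comp w (zero_add (q + 1))) hξ'

variable (k : Type u) [Field k] [X.Over (Spec (CommRingCat.of k))] {n : ℕ} {ω : X.Modules}

/-- A natural bijection of Ext with the dual of a finite cohomology forces finiteness. -/
theorem finite_ext {j r : ℕ} (Φ : ∀ F : X.Modules, Ext.{u} F ω j → (Coh.HH X F r →ₗ[k] k))
    (hΦ : ∀ F : X.Modules, Coh.IsQCoh F → Function.Bijective (Φ F))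
    (hΦn : ∀ {F G : X.Modules} (g : F ⟶ G) (x : Ext.{u} G ω j),
      Φ F ((Ext.mk₀ g).comp x (zero_add j)) = Φ G x ∘ₗ SerreDual.hmap k g r)
    (G : X.Modules) (hG : Coh.IsCoh G) (hfin : Module.Finite k (Coh.HH X G r)) :
    Module.Finite k (Ext.{u} G ω j) := by
  haveI := hG.1
  have hadd : ∀ x y, Φ G (x + y) = Φ G x + Φ G y := fun x y => by
    haveI : Coh.IsQCoh (G ⊞ G) := Coherent.isQCoh_biprod G G
    obtain ⟨z, hz⟩ := (hΦ (G ⊞ G) inferInstance).2
      (Φ G x ∘ₗ SerreDual.hmap k biprod.fst r + Φ G y ∘ₗ SerreDual.hmap k biprod.snd r)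
    have hcomp : ∀ {A B C : X.Modules} (a : A ⟶ B) (b : B ⟶ C) (v : Coh.HH X A r),
        SerreDual.hmap k b r (SerreDual.hmap k a r v) = SerreDual.hmap k (a ≫ b) r v := fun a b v => by
      rw [SerreDual.hmap_comp]; rfl
    have hl : (Ext.mk₀ (biprod.inl : G ⟶ G ⊞ G)).comp z (zero_add j) = x := (hΦ G inferInstance).1 (by
      rw [hΦn, hz]
      refine LinearMap.ext fun v => ?_
      simp only [LinearMap.comp_apply, LinearMap.add_apply, hcomp, biprod.inl_fst, biprod.inl_snd,
        SerreDual.hmap_id, SerreDual.hmap_zero, LinearMap.id_apply, LinearMap.zero_apply, map_zero, add_zero])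
    have hr : (Ext.mk₀ (biprod.inr : G ⟶ G ⊞ G)).comp z (zero_add j) = y := (hΦ G inferInstance).1 (by
      rw [hΦn, hz]
      refine LinearMap.ext fun v => ?_
      simp only [LinearMap.comp_apply, LinearMap.add_apply, hcomp, biprod.inr_fst, biprod.inr_snd,
        SerreDual.hmap_id, SerreDual.hmap_zero, LinearMap.id_apply, LinearMap.zero_apply, map_zero, zero_add])
    have hd : (Ext.mk₀ (biprod.inl + biprod.inr : G ⟶ G ⊞ G)).comp z (zero_add j) = x + y := by
      rw [Ext.mk₀_add, Ext.add_comp, hl, hr]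
    rw [← hd, hΦn, hz]
    refine LinearMap.ext fun v => ?_
    simp only [LinearMap.comp_apply, LinearMap.add_apply, hcomp, Preadditive.add_comp, biprod.inl_fst,
      biprod.inr_fst, biprod.inl_snd, biprod.inr_snd, add_zero, zero_add, SerreDual.hmap_id, LinearMap.id_apply]
  have hsmul : ∀ (c : k) x, Φ G (c • x) = c • Φ G x := fun c x => by
    have e : c • x = (Ext.mk₀ (c • 𝟙 G)).comp x (zero_add j) := by
      rw [Ext.mk₀_smul, Ext.smul_comp, Ext.mk₀_id_comp]
    rw [e, hΦn, SerreDual.hmap_smul, SerreDual.hmap_id, LinearMap.comp_smul, LinearMap.comp_id]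
  haveI := hfin
  exact Module.Finite.equiv (LinearEquiv.ofBijective
    ({ toFun := Φ G, map_add' := hadd, map_smul' := hsmul } : Ext.{u} G ω j →ₗ[k] Module.Dual k (Coh.HH X G r))
    (hΦ G inferInstance)).symm

theorem restrict_smul {Y : Scheme.{u}} {V : Y.Opens} (M : Y.Modules) (W : V.toScheme.Opens)
    (r : Γ(Y, V.ι ''ᵁ W)) (x : Γ(M, V.ι ''ᵁ W)) :
    (show Γ(V.toScheme, W) from r) • (show Γ(M.restrict V.ι, W) from x) = r • x := by
  show ((V.ι.appIso W).inv (show Γ(V.toScheme, W) from r)) • x = r • x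
  rw [Scheme.Opens.ι_appIso]
  rfl

/-- Restriction to an open subscheme is linear over the base field. -/
theorem linear_restrict : (Scheme.Modules.restrictFunctor U.ι).Linear k where
  map_smul {M N} f c := by
    refine Scheme.Modules.hom_ext _ _ fun V => ConcreteCategory.hom_ext _ _ fun x => ?_
    refine Eq.trans ?_ (KLin.smul_app_apply c ((Scheme.Modules.restrictFunctor U.ι).map f) V x).symm
    refine (KLin.smul_app_apply c f (U.ι ''ᵁ V) x).trans ?_
    have e : (U : Scheme.{u}).presheaf.map (homOfLE (le_top : V ≤ ⊤)).op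
        (Coh.toGlobal ((U : Scheme.{u}) ↘ Spec (CommRingCat.of k)) c) =
        X.presheaf.map (homOfLE (le_top : U.ι ''ᵁ V ≤ ⊤)).op (Coh.toGlobal (X ↘ Spec (CommRingCat.of k)) c) := by
      show (X.presheaf.map _) (((U.ι ≫ (X ↘ Spec (CommRingCat.of k))).appTop).hom
        ((Scheme.ΓSpecIso (CommRingCat.of k)).inv.hom c)) = _
      rw [Scheme.Hom.comp_appTop, CommRingCat.hom_comp, RingHom.comp_apply]
      show (X.presheaf.map _) ((X.presheaf.map _) _) = _
      rw [← ConcreteCategory.comp_apply, ← X.presheaf.map_comp]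
      rfl
    rw [e]
    exact (restrict_smul N V _ _).symm

end Groth.Agent.CohDim22
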